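import Mathlib
import Cfsg.Agent.Helper98.SU33c

/-!
# `SU_3(3)` has at least 14 conjugacy classes

Fourteen explicit elements of `SU_3(3)` (over the explicit field `GF9`) are pairwise distinguished by
invariants of the conjugacy class: the trace and the truth values of `M = 1`, `(M - 1)^2 = 0`,
`M^2 = 1`, `M^4 = 1`.
-/

set_option autoImplicit false

namespace Cfsg.Agent.Helper98.U33x

open Matrix Cfsg.Agent.Helper98 Cfsg.Agent.Helper98.U33 Cfsg.Agent.Helper98.SU33

/-- `3 × 3` matrices over the explicit field with nine elements -/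
abbrev Mat3 := Matrix (Fin 3) (Fin 3) GF9

/-- invariants of the conjugacy class of a matrix -/
def inv (M : Mat3) : GF9 × Bool × Bool × Bool × Bool :=
  (Matrix.trace M, decide (M = 1), decide (M * M = (2 : GF9) • M + (2 : GF9) • (1 : Mat3)),
    decide (M * M = 1), decide (M * M * (M * M) = 1))

section conj

variable (B B' : Mat3) (h1 : B * B' = 1) (h2 : B' * B = 1)

include h2 in
theorem conj_mul (X Y : Mat3) : B * X * B' * (B * Y * B') = B * (X * Y) * B' := by
  calc B * X * B' * (B * Y * B') = B * X * (B' * B) * Y * B' := by simp only [Matrix.mul_assoc]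
    _ = B * (X * Y) * B' := by rw [h2]; simp only [Matrix.mul_assoc, Matrix.mul_one]

include h1 in
theorem conj_one : B * 1 * B' = 1 := by rw [Matrix.mul_one, h1]

include h2 in
theorem conj_inj {X Y : Mat3} (h : B * X * B' = B * Y * B') : X = Y := by
  have h3 : B' * (B * X * B') * B = B' * (B * Y * B') * B := by rw [h]
  have e : ∀ Z : Mat3, B' * (B * Z * B') * B = Z := by
    intro Z
    calc B' * (B * Z * B') * B = (B' * B) * Z * (B' * B) := by simp only [Matrix.mul_assoc]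
      _ = Z := by rw [h2, Matrix.one_mul, Matrix.mul_one]
  rwa [e, e] at h3

include h2 in
theorem conj_eq_iff {X Y : Mat3} : B * X * B' = B * Y * B' ↔ X = Y :=
  ⟨conj_inj B B' h2, fun h => by rw [h]⟩

include h1 h2 in
theorem inv_conj (M : Mat3) : inv (B * M * B') = inv M := by
  unfold inv
  have t : Matrix.trace (B * M * B') = Matrix.trace M := by
    rw [Matrix.trace_mul_comm, ← Matrix.mul_assoc, h2, Matrix.one_mul]
  have e1 : (B * M * B' = 1) ↔ (M = 1) := by
    rw [← conj_one B B' h1, conj_eq_iff B B' h2, conj_one B B' h1]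
  have e3 : (B * M * B' * (B * M * B') = 1) ↔ (M * M = 1) := by
    rw [conj_mul B B' h2, ← conj_one B B' h1, conj_eq_iff B B' h2, conj_one B B' h1]
  have e4 : (B * M * B' * (B * M * B') * (B * M * B' * (B * M * B')) = 1) ↔
      (M * M * (M * M) = 1) := by
    rw [conj_mul B B' h2, conj_mul B B' h2, ← conj_one B B' h1, conj_eq_iff B B' h2,
      conj_one B B' h1]
  have e2 : (B * M * B' * (B * M * B') = (2 : GF9) • (B * M * B') + (2 : GF9) • (1 : Mat3)) ↔
      (M * M = (2 : GF9) • M + (2 : GF9) • (1 : Mat3)) := by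
    have : (2 : GF9) • (B * M * B') + (2 : GF9) • (1 : Mat3) =
        B * ((2 : GF9) • M + (2 : GF9) • (1 : Mat3)) * B' := by
      rw [Matrix.mul_add, Matrix.add_mul, Matrix.mul_smul, Matrix.smul_mul, Matrix.mul_smul,
        Matrix.smul_mul, conj_one B B' h1]
    rw [conj_mul B B' h2, this, conj_eq_iff B B' h2]
  rw [t, decide_eq_decide.2 e1, decide_eq_decide.2 e2, decide_eq_decide.2 e3,
    decide_eq_decide.2 e4]

end conj

/-- the invariants of an element of `SU_3(3)` -/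
def invS (g : S) : GF9 × Bool × Bool × Bool × Bool := inv g.1.1

theorem invS_conj (c g : S) : invS (c * g * c⁻¹) = invS g := by
  have h1 : (c.1.1 : Mat3) * (c⁻¹).1.1 = 1 := by
    have := congrArg (fun x : S => (x.1.1 : Mat3)) (mul_inv_cancel c)
    exact this
  have h2 : ((c⁻¹).1.1 : Mat3) * c.1.1 = 1 := by
    have := congrArg (fun x : S => (x.1.1 : Mat3)) (inv_mul_cancel c)
    exact this
  exact inv_conj _ _ h1 h2 g.1.1

theorem invS_of_isConj {g h : S} (hc : IsConj g h) : invS g = invS h := by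
  obtain ⟨c, hc⟩ := isConj_iff.1 hc
  rw [← hc, invS_conj]

/-! ### the fourteen representatives -/

/-- representative -/
def x0 : B3 := ⟨1, 0, 0, 0, 0, 0, 0, 0, 1, 0, 0, 0, 0, 0, 0, 0, 1, 0⟩
/-- representative -/
def x1 : B3 := ⟨0, 0, 0, 1, 0, 0, 0, 2, 0, 0, 0, 0, 0, 0, 0, 0, 2, 0⟩
/-- representative -/
def x2 : B3 := ⟨0, 0, 0, 2, 0, 0, 0, 0, 0, 0, 0, 1, 1, 0, 0, 0, 0, 0⟩
/-- representative -/
def x3 : B3 := ⟨1, 2, 0, 0, 1, 2, 0, 0, 1, 0, 0, 0, 2, 2, 0, 0, 1, 1⟩
/-- representative -/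
def x4 : B3 := ⟨1, 0, 0, 0, 0, 0, 0, 0, 0, 0, 1, 0, 0, 0, 2, 0, 0, 0⟩
/-- representative -/
def x5 : B3 := ⟨0, 1, 0, 0, 0, 0, 0, 0, 0, 1, 0, 0, 0, 0, 0, 0, 2, 0⟩
/-- representative -/
def x6 : B3 := ⟨0, 2, 0, 0, 0, 0, 0, 0, 2, 0, 0, 0, 0, 0, 0, 0, 0, 2⟩
/-- representative -/
def x7 : B3 := ⟨2, 2, 0, 0, 1, 1, 0, 0, 1, 0, 0, 0, 2, 1, 0, 0, 2, 1⟩
/-- representative -/
def x8 : B3 := ⟨0, 0, 2, 2, 2, 1, 0, 0, 1, 2, 1, 1, 0, 1, 0, 0, 0, 0⟩
/-- representative -/
def x9 : B3 := ⟨1, 1, 0, 0, 2, 1, 2, 1, 0, 0, 1, 1, 0, 0, 0, 1, 0, 0⟩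
/-- representative -/
def x10 : B3 := ⟨0, 0, 0, 0, 0, 1, 0, 0, 0, 1, 0, 0, 1, 0, 0, 0, 0, 0⟩
/-- representative -/
def x11 : B3 := ⟨0, 0, 0, 1, 0, 0, 2, 0, 0, 0, 0, 0, 0, 0, 0, 0, 0, 2⟩
/-- representative -/
def x12 : B3 := ⟨2, 2, 0, 0, 1, 1, 0, 0, 2, 0, 0, 0, 1, 2, 0, 0, 1, 2⟩
/-- representative -/
def x13 : B3 := ⟨2, 0, 0, 0, 0, 0, 0, 0, 2, 1, 1, 2, 0, 0, 1, 1, 1, 1⟩

/-- the list of representatives -/
def xs : List B3 := [x0, x1, x2, x3, x4, x5, x6, x7, x8, x9, x10, x11, x12, x13]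

theorem xs_det : ∀ x ∈ xs, (sndMat x).det = 1 := by
  intro x hx
  rw [Matrix.det_fin_three]
  simp only [xs, List.mem_cons, List.not_mem_nil, or_false] at hx
  rcases hx with rfl | rfl | rfl | rfl | rfl | rfl | rfl | rfl | rfl | rfl | rfl | rfl | rfl | rfl <;>
    decide

theorem xs_flat : ∀ x ∈ xs, B3.mul (transB x) (conjB x) = B3.one := by decide

theorem xs_inv : (xs.map fun x => inv (sndMat x)).Nodup := by decide

theorem xs_length : xs.length = 14 := rfl

/-- the `i`-th representative as an element of `SU_3(3)` -/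
def rep (i : Fin 14) : S :=
  toSU (xs[i.val]'(by rw [xs_length]; exact i.2)) (xs_det _ (List.getElem_mem _))
    (xs_flat _ (List.getElem_mem _))

theorem invS_rep (k : Fin 14) :
    invS (rep k) = (xs.map fun x => inv (sndMat x))[k.val]'(by
      rw [List.length_map, xs_length]; exact k.2) := by
  rw [List.getElem_map]
  rfl

theorem rep_inj {i j : Fin 14} (h : ConjClasses.mk (rep i) = ConjClasses.mk (rep j)) : i = j := by
  have hc := ConjClasses.mk_eq_mk_iff_isConj.1 h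
  have hi := invS_of_isConj hc
  rw [invS_rep, invS_rep] at hi
  exact Fin.ext ((xs_inv.getElem_inj_iff).1 hi)

/-- (CCL) `SU_3(3)` has at least 14 conjugacy classes -/
theorem CCL_classes : 14 ≤ Nat.card (ConjClasses Cfsg.Agent.Helper98.SU33.S) := by
  have hinj : Function.Injective (fun i : Fin 14 => ConjClasses.mk (rep i)) :=
    fun i j h => rep_inj h
  have h := Nat.card_le_card_of_injective _ hinj
  simpa using h

end Cfsg.Agent.Helper98.U33x
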